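import Cfsg.Agent.Lib.RankThreeRecog.Words

/-!
Kernel checks of derivations in an amalgam: a word of letters is rewritten, each step replacing a segment
by another one whose letters lie in the same local subgroup and which acts equally on some points.
A word is packed in a number with six bits for each letter; a step is a number carrying the position,
the two lengths, the local subgroup, the new length and the new word.
-/

set_option autoImplicit false

namespace CfsgLib.McLRecog.Completion

open CfsgLib.RankThreeRecog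

/-- The first `len` letters of a packed word. -/
noncomputable def dec (len : ℕ) : ℕ → List ℕ :=
  Nat.rec (fun _ => []) (fun _ ih N => Nat.land N 63 :: ih (Nat.shiftRight N 6)) len

theorem dec_add (p q N : ℕ) : dec (p + q) N = dec p N ++ dec q (N >>> (6 * p)) := by
  induction p generalizing N with
  | zero => simp [dec]
  | succ p ih =>
    rw [Nat.succ_add]
    show Nat.land N 63 :: dec (p + q) (N >>> 6) = (Nat.land N 63 :: dec p (N >>> 6)) ++ _
    rw [ih, List.cons_append, ← Nat.shiftRight_add]
    congr 4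
    ring

/-- The part of a packed word before a position. -/
noncomputable def lowPart (p N : ℕ) : ℕ := Nat.mod N (Nat.pow 2 (Nat.mul 6 p))

theorem dec_congr : ∀ (p N M : ℕ), lowPart p N = lowPart p M → dec p N = dec p M
  | 0, _, _, _ => rfl
  | p + 1, N, M, h => by
    change N % 2 ^ (6 * (p + 1)) = M % 2 ^ (6 * (p + 1)) at h
    have hb : ∀ i, i < 6 * (p + 1) → N.testBit i = M.testBit i := fun i hi => by
      have := congrArg (fun x => Nat.testBit x i) h
      simpa [Nat.testBit_mod_two_pow, hi] using this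
    show Nat.land N 63 :: dec p (N >>> 6) = Nat.land M 63 :: dec p (M >>> 6)
    have h0 : Nat.land N 63 = Nat.land M 63 := by
      show N &&& (2 ^ 6 - 1) = M &&& (2 ^ 6 - 1)
      rw [Nat.and_two_pow_sub_one_eq_mod, Nat.and_two_pow_sub_one_eq_mod]
      refine Nat.eq_of_testBit_eq fun i => ?_
      simp only [Nat.testBit_mod_two_pow]
      by_cases hi : i < 6
      · simp [hi, hb i (by omega)]
      · simp [hi]
    rw [h0, dec_congr p (N >>> 6) (M >>> 6) ?_]
    refine Nat.eq_of_testBit_eq fun i => ?_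
    show ((N >>> 6) % 2 ^ (6 * p)).testBit i = ((M >>> 6) % 2 ^ (6 * p)).testBit i
    simp only [Nat.testBit_mod_two_pow, Nat.testBit_shiftRight]
    by_cases hi : i < 6 * p
    · simp [hi, hb (6 + i) (by omega)]
    · simp [hi]

/-- A field of a step. -/
noncomputable def hdr (x i : ℕ) : ℕ := Nat.land (Nat.shiftRight x (Nat.mul 12 i)) 4095

/-- The new word of a step. -/
noncomputable def newWord (x : ℕ) : ℕ := Nat.shiftRight x 60

/-- All letters lie in a local subgroup. -/
noncomputable def inGroup (mask : ℕ → ℕ) (g : ℕ) (w : List ℕ) : Bool :=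
  w.all fun i => Nat.beq (Nat.land (mask i) g) g

/-- Two segments are locally equal. -/
noncomputable def localOk (T : ℕ → ℕ → ℕ) (pts : List ℕ) (mask : ℕ → ℕ) (g : ℕ) (u v : List ℕ) :
    Bool :=
  (Nat.beq g 1 || Nat.beq g 2 || Nat.beq g 4) && inGroup mask g u && inGroup mask g v && sameOn T pts u v

/-- A step is allowed. -/
noncomputable def stepOk (T : ℕ → ℕ → ℕ) (pts : List ℕ) (mask : ℕ → ℕ) (len W x : ℕ) : Bool :=
  Nat.ble (Nat.add (hdr x 0) (hdr x 1)) len &&
    Nat.beq (Nat.add (hdr x 4) (hdr x 1)) (Nat.add len (hdr x 2)) &&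
    Nat.beq (lowPart (hdr x 0) W) (lowPart (hdr x 0) (newWord x)) &&
    Nat.beq (Nat.shiftRight W (Nat.mul 6 (Nat.add (hdr x 0) (hdr x 1))))
      (Nat.shiftRight (newWord x) (Nat.mul 6 (Nat.add (hdr x 0) (hdr x 2)))) &&
    localOk T pts mask (hdr x 3) (dec (hdr x 1) (Nat.shiftRight W (Nat.mul 6 (hdr x 0))))
      (dec (hdr x 2) (Nat.shiftRight (newWord x) (Nat.mul 6 (hdr x 0))))

/-- A chain of steps ends with the empty word. -/
noncomputable def runOk (T : ℕ → ℕ → ℕ) (pts : List ℕ) (mask : ℕ → ℕ) : List ℕ → ℕ → ℕ → Bool :=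
  fun xs => List.rec (fun len _ => Nat.beq len 0)
    (fun x _ ih len W => stepOk T pts mask len W x && ih (hdr x 4) (newWord x)) xs

/-- Equality of lists of letters. -/
noncomputable def lBeq : List ℕ → List ℕ → Bool :=
  fun u => List.rec (fun v => v.isEmpty)
    (fun a _ ih v => List.rec false (fun b v' _ => Nat.beq a b && ih v') v) u

theorem lBeq_eq : ∀ {u v : List ℕ}, lBeq u v = true → u = v
  | [], [], _ => rfl
  | [], b :: v, h => by simp [lBeq] at h
  | a :: u, [], h => by simp [lBeq] at h
  | a :: u, b :: v, h => by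
    change (Nat.beq a b && lBeq u v) = true at h
    rw [Bool.and_eq_true] at h
    rw [Nat.eq_of_beq_eq_true h.1, lBeq_eq h.2]

section

variable {Γ : Type*} [Group Γ] {T : ℕ → ℕ → ℕ} {pts : List ℕ} {mask : ℕ → ℕ} {L : ℕ → Γ}

/-- Local equalities hold. -/
def LocalEq (T : ℕ → ℕ → ℕ) (pts : List ℕ) (mask : ℕ → ℕ) (L : ℕ → Γ) : Prop :=
  ∀ g u v, localOk T pts mask g u v = true → (u.map L).prod = (v.map L).prod

theorem prod_of_stepOk (hL : LocalEq T pts mask L) {len W x : ℕ}
    (h : stepOk T pts mask len W x = true) :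
    ((dec len W).map L).prod = ((dec (hdr x 4) (newWord x)).map L).prod := by
  simp only [stepOk, Bool.and_eq_true] at h
  obtain ⟨⟨⟨⟨hle, hlen⟩, hlow⟩, hhigh⟩, hloc⟩ := h
  have hle' : hdr x 0 + hdr x 1 ≤ len := Nat.le_of_ble_eq_true hle
  have hlen' : hdr x 4 + hdr x 1 = len + hdr x 2 := Nat.eq_of_beq_eq_true hlen
  obtain ⟨r, hr⟩ := Nat.exists_eq_add_of_le hle'
  have h4 : hdr x 4 = hdr x 0 + (hdr x 2 + r) := by omega
  have hhigh' : W >>> (6 * (hdr x 0 + hdr x 1)) = newWord x >>> (6 * (hdr x 0 + hdr x 2)) :=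
    Nat.eq_of_beq_eq_true hhigh
  rw [h4, hr, Nat.add_assoc, dec_add (hdr x 0), dec_add (hdr x 0), dec_add (hdr x 1),
    dec_add (hdr x 2), ← Nat.shiftRight_add, ← Nat.shiftRight_add, ← Nat.mul_add, ← Nat.mul_add,
    hhigh', dec_congr _ _ _ (Nat.eq_of_beq_eq_true hlow)]
  simp only [List.map_append, List.prod_append]
  have hm := hL _ _ _ hloc
  exact congrArg₂ (· * ·) rfl (congrArg₂ (· * ·) hm rfl)

theorem prod_of_runOk (hL : LocalEq T pts mask L) : ∀ {xs : List ℕ} {len W : ℕ},
    runOk T pts mask xs len W = true → ((dec len W).map L).prod = 1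
  | [], len, W, h => by
    rw [show len = 0 from Nat.eq_of_beq_eq_true h]; rfl
  | x :: xs, len, W, h => by
    change (stepOk T pts mask len W x && runOk T pts mask xs (hdr x 4) (newWord x)) = true at h
    rw [Bool.and_eq_true] at h
    exact (prod_of_stepOk hL h.1).trans (prod_of_runOk hL h.2)

/-- An equation: two words and a word inverse to both. -/
structure Eqn where
  lhs : List ℕ
  rhs : List ℕ
  rinv : List ℕ
  startL : ℕ
  stepsL : List ℕ
  startR : ℕ
  stepsR : List ℕ

/-- An equation is certified. -/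
noncomputable def Eqn.ok (T : ℕ → ℕ → ℕ) (pts : List ℕ) (mask : ℕ → ℕ) (e : Eqn) : Bool :=
  lBeq (dec (e.lhs.length + e.rinv.length) e.startL) (e.lhs ++ e.rinv) &&
    lBeq (dec (e.rhs.length + e.rinv.length) e.startR) (e.rhs ++ e.rinv) &&
    runOk T pts mask e.stepsL (e.lhs.length + e.rinv.length) e.startL &&
    runOk T pts mask e.stepsR (e.rhs.length + e.rinv.length) e.startR

theorem Eqn.spec (hL : LocalEq T pts mask L) {e : Eqn} (h : e.ok T pts mask = true) :
    (e.lhs.map L).prod = (e.rhs.map L).prod := by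
  simp only [Eqn.ok, Bool.and_eq_true] at h
  obtain ⟨⟨⟨h1, h2⟩, h3⟩, h4⟩ := h
  have h3' := prod_of_runOk hL h3
  have h4' := prod_of_runOk hL h4
  rw [lBeq_eq h1, List.map_append, List.prod_append] at h3'
  rw [lBeq_eq h2, List.map_append, List.prod_append] at h4'
  exact mul_right_cancel (h3'.trans h4'.symm)

end

end CfsgLib.McLRecog.Completion
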