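import Mathlib.Algebra.Group.Subgroup.Finite
import Mathlib.GroupTheory.OrderOfElement

/-!
An enumeration of cosets by orbits of the subgroup: if right multiplication by a further element keeps
the union of finitely many double cosets of `K` invariant, that union contains the generated subgroup.
-/

set_option autoImplicit false

namespace CfsgLib.McLRecog.Completion

/-- In a finite group a subgroup is generated as a monoid by its generators. -/
theorem mem_submonoid_closure {H : Type*} [Group H] [Finite H] {s : Set H} {x : H}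
    (h : x ∈ Subgroup.closure s) : x ∈ Submonoid.closure s := by
  rwa [← Subgroup.mem_toSubmonoid, Subgroup.closure_toSubmonoid_of_finite] at h

variable {H : Type*} [Group H] [Finite H]

/-- The union of the double cosets of the representatives. -/
def cosetUnion (K : Subgroup H) (R : Set ℕ) (γ : ℕ → H) : Set H :=
  {g | ∃ r ∈ R, ∃ x ∈ K, ∃ y ∈ K, g = x * γ r * y}

variable {K : Subgroup H} {A D : Set H} {nn : H} {R J : Set ℕ} {γ c : ℕ → H}

/-- Every element of `K` is a representative times an element of the smaller subgroup. -/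
theorem exists_rep (hK : K = Subgroup.closure A) (h0 : 0 ∈ J) (hc0 : c 0 = 1)
    (hmul : ∀ u ∈ A, ∀ j ∈ J, ∃ j' ∈ J, ∃ d ∈ Subgroup.closure D, u * c j = c j' * d)
    {k : H} (hk : k ∈ K) : ∃ j ∈ J, ∃ d ∈ Subgroup.closure D, k = c j * d := by
  rw [hK] at hk
  have hk' := mem_submonoid_closure hk
  induction hk' using Submonoid.closure_induction_left with
  | one => exact ⟨0, h0, 1, one_mem _, by rw [hc0, mul_one]⟩
  | mul_left u hu x hx ih =>
    obtain ⟨j, hj, d, hd, rfl⟩ := ih (by rw [← Subgroup.mem_toSubmonoid,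
      Subgroup.closure_toSubmonoid_of_finite]; exact hx)
    obtain ⟨j', hj', d', hd', e⟩ := hmul u hu j hj
    exact ⟨j', hj', d' * d, mul_mem hd' hd, by rw [← mul_assoc, e, mul_assoc]⟩

omit [Finite H] in
/-- The smaller subgroup is moved into `K` by the further element. -/
theorem exists_conj (hDn : ∀ d ∈ D, ∃ d' ∈ K, d * nn = nn * d') {d : H}
    (hd : d ∈ Subgroup.closure D) : ∃ d' ∈ K, d * nn = nn * d' := by
  induction hd using Subgroup.closure_induction with
  | mem x hx => exact hDn x hx
  | one => exact ⟨1, one_mem _, by rw [one_mul, mul_one]⟩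
  | mul x y _ _ hx hy =>
    obtain ⟨a, ha, ea⟩ := hx
    obtain ⟨b, hb, eb⟩ := hy
    exact ⟨a * b, mul_mem ha hb, by rw [mul_assoc, eb, ← mul_assoc, ea, mul_assoc]⟩
  | inv x _ hx =>
    obtain ⟨a, ha, ea⟩ := hx
    refine ⟨a⁻¹, inv_mem ha, inv_mul_eq_iff_eq_mul.2 ?_⟩
    rw [← mul_assoc, ea, mul_inv_cancel_right]

omit [Finite H] in
/-- A stabiliser element carries a good representative to another one. -/
theorem mem_cover (hDn : ∀ d ∈ D, ∃ d' ∈ K, d * nn = nn * d') {r : ℕ} {e x d : H} {j j' : ℕ}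
    (hx : x ∈ K) (hex : γ r * e = x * γ r) (hd : d ∈ Subgroup.closure D) (hj : e * c j = c j' * d)
    (h : γ r * c j * nn ∈ cosetUnion K R γ) : γ r * c j' * nn ∈ cosetUnion K R γ := by
  obtain ⟨d', hd', ed⟩ := exists_conj hDn (inv_mem hd)
  obtain ⟨s, hs, a, ha, b, hb, e1⟩ := h
  refine ⟨s, hs, x * a, mul_mem hx ha, b * d', mul_mem hb hd', ?_⟩
  have e2 : c j' = e * c j * d⁻¹ := by rw [hj, mul_inv_cancel_right]
  calc γ r * c j' * nn = γ r * e * c j * (d⁻¹ * nn) := by rw [e2]; simp only [mul_assoc]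
    _ = x * (γ r * c j * nn) * d' := by rw [hex, ed]; simp only [mul_assoc]
    _ = x * a * γ s * (b * d') := by rw [e1]; simp only [mul_assoc]

/-- The union of the double cosets contains the generated subgroup. -/
theorem closure_subset_cosetUnion (hK : K = Subgroup.closure A) (h0 : 0 ∈ J) (hc0 : c 0 = 1)
    (hmul : ∀ u ∈ A, ∀ j ∈ J, ∃ j' ∈ J, ∃ d ∈ Subgroup.closure D, u * c j = c j' * d)
    (hDn : ∀ d ∈ D, ∃ d' ∈ K, d * nn = nn * d')
    (hcl : ∀ r ∈ R, ∀ j ∈ J, γ r * c j * nn ∈ cosetUnion K R γ)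
    (hr0 : 0 ∈ R) (hg0 : γ 0 = 1) {g : H} (hg : g ∈ Subgroup.closure (A ∪ {nn})) :
    g ∈ cosetUnion K R γ := by
  have hg' := mem_submonoid_closure hg
  clear hg
  induction hg' using Submonoid.closure_induction_right with
  | one => exact ⟨0, hr0, 1, one_mem _, 1, one_mem _, by rw [hg0, mul_one, mul_one]⟩
  | mul_right p hp u hu ih =>
    obtain ⟨r, hr, x, hx, y, hy, rfl⟩ := ih
    rcases hu with hu | hu
    · exact ⟨r, hr, x, hx, y * u, mul_mem hy (hK ▸ Subgroup.subset_closure hu), by rw [mul_assoc]⟩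
    · rw [Set.mem_singleton_iff] at hu
      subst hu
      obtain ⟨j, hj, d, hd, rfl⟩ := exists_rep hK h0 hc0 hmul hy
      obtain ⟨d', hd', ed⟩ := exists_conj hDn hd
      obtain ⟨s, hs, a, ha, b, hb, e⟩ := hcl r hr j hj
      refine ⟨s, hs, x * a, mul_mem hx ha, b * d', mul_mem hb hd', ?_⟩
      calc x * γ r * (c j * d) * u = x * (γ r * c j * u) * d' := by
            rw [show x * γ r * (c j * d) * u = x * γ r * c j * (d * u) by simp only [mul_assoc], ed]
            simp only [mul_assoc]
        _ = x * a * γ s * (b * d') := by rw [e]; simp only [mul_assoc]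

end CfsgLib.McLRecog.Completion
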