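import Cfsg.Agent.Lib.McLRecog.Completion.Data
import Cfsg.Agent.Lib.McLRecog.Completion.Points

/-!
The letters of the completion certificate: their tables, a faithful base of five points, and the local
subgroups they lie in.
-/

set_option autoImplicit false
set_option maxRecDepth 100000
set_option Elab.async false

namespace CfsgLib.McLRecog.Completion

open CfsgLib.RankThreeMcL CfsgLib.RankThreeRecog MulAction
open CfsgLib.SporRecognition.CosetCert (allBelow allBelow_spec field)

/-- The table of a letter. -/
noncomputable def tabT (i u : ℕ) : ℕ := bif Nat.blt i 34 then field (Data.tabs.getD i 0) 9 u else u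

/-- The base. -/
def basePts : List ℕ := [0, 25, 26, 32, 39]

/-- The local subgroups holding a letter: bit 0 for the centraliser, bits 1 and 2 for the normalisers. -/
noncomputable def maskOf' (i : ℕ) : ℕ := Data.masks.getD i 0

/-- The tables of the letters are those of their words. -/
noncomputable def tabsOk : Bool :=
  (List.range 34).all fun i => allBelow 9 275 fun u => Nat.beq (tabT i u) (ev tblT (word i) u)

theorem tabs_ok : tabsOk = true := by decide +kernel

theorem word_of_ge {i : ℕ} (h : 34 ≤ i) : word i = [] :=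
  List.getD_eq_default _ _ (by rw [show wordList.length = 34 from rfl]; exact h)

theorem describes_el : Describes tabT (fun i => ((el i : mclS) : Equiv.Perm (Fin 275))) := fun i u => by
  show ((wperm gperm (word i) u : Fin 275) : ℕ) = _
  rw [ev_eq describes]
  by_cases hi : i < 34
  · have h := tabs_ok
    simp only [tabsOk, List.all_eq_true, List.mem_range] at h
    exact (Nat.eq_of_beq_eq_true (allBelow_spec (h i hi) u u.2)).symm
  · have e : Nat.blt i 34 = false := by
      rcases hb : Nat.blt i 34 with _ | _
      · rfl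
      · exact absurd (Nat.blt_eq.mp hb) hi
    rw [word_of_ge (not_lt.1 hi), tabT, e]
    rfl

theorem tabT_lt (i u : ℕ) (hu : u < 275) : tabT i u < 275 := by
  have h := describes_el i ⟨u, hu⟩
  exact h ▸ Fin.isLt _

/-- The elements fixing given points. -/
def fixAll {N : ℕ} (l : List ℕ) : Subgroup (Equiv.Perm (Fin N)) where
  carrier := {g | ∀ u : Fin N, (u : ℕ) ∈ l → g u = u}
  one_mem' := fun _ _ => rfl
  mul_mem' := fun {a b} ha hb u hu => by rw [Equiv.Perm.mul_apply, hb u hu, ha u hu]
  inv_mem' := fun {a} ha u hu => by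
    conv_lhs => rw [← ha u hu]
    exact a.symm_apply_apply u

/-- A stabiliser chain certifies the order beyond the fixed points of the base. -/
theorem chain_spec_rest {N : ℕ} {T : ℕ → ℕ → ℕ} {σ : ℕ → Equiv.Perm (Fin N)} (hT : Describes T σ)
    (hN : ∀ i u, u < N → T i u < N) :
    ∀ (ls : List Level) (fixed ns : List ℕ) (L : Subgroup (Equiv.Perm (Fin N))),
      chainOK T N ls fixed ns = true →
      (∀ l ∈ ls, ∀ w ∈ l.2.1, fixesAll T fixed w = true → wperm σ w ∈ L) →
      ns.prod * Nat.card ↥(L ⊓ fixAll (ls.map Prod.fst)) ≤ Nat.card L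
  | [], fixed, ns, L, h, _ => by
    cases ns with
    | nil =>
      rw [List.prod_nil, one_mul]
      exact Subgroup.card_le_of_le inf_le_left
    | cons n ns => simp [chainOK] at h
  | l :: ls, fixed, ns, L, h, hL => by
    change (_ && _ && _) = true at h
    simp only [Bool.and_eq_true, decide_eq_true_eq, List.all_eq_true] at h
    obtain ⟨⟨hl, hfix⟩, h⟩ := h
    rcases hg : grow T l.2.1 l.2.2 (Nat.shiftLeft 1 l.1) with _ | m
    · rw [hg] at h; exact absurd h (by simp)
    rcases ns with _ | ⟨n, ns⟩
    · rw [hg] at h; exact absurd h (by simp)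
    rw [hg] at h
    simp only [Bool.and_eq_true, decide_eq_true_eq] at h
    set x : Fin N := ⟨l.1, hl⟩
    have horb : n ≤ (orbit L x).ncard := by
      refine h.1.trans (maskCount_le (grow_spec hT (L := L)
        (fun w hw => hL l (List.mem_cons_self ..) w hw (hfix w hw))
        (orbit L x) (fun g hg y hy => ?_) hN _ _ _ hg fun i hi => ?_))
      · obtain ⟨t, rfl⟩ := hy
        exact ⟨⟨g, hg⟩ * t, rfl⟩
      · change Nat.testBit (1 <<< l.1) i = true at hi
        rw [Nat.one_shiftLeft, Nat.testBit_two_pow, decide_eq_true_eq] at hi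
        exact ⟨x, mem_orbit_self _, hi⟩
    have hrest : ns.prod * Nat.card ↥(L ⊓ fixAll ((l :: ls).map Prod.fst)) ≤
        Nat.card ↥(L ⊓ stabilizer (Equiv.Perm (Fin N)) x) := by
      refine le_trans (Nat.mul_le_mul_left _ (Subgroup.card_le_of_le ?_))
        (chain_spec_rest hT hN ls _ ns _ h.2 fun l' hl' w hw hwf => ?_)
      · rintro g ⟨hg, hfx⟩
        exact ⟨⟨hg, hfx x (by simp [x])⟩, fun u hu => hfx u (List.mem_cons_of_mem _ hu)⟩
      · rw [fixesAll, List.all_cons, Bool.and_eq_true] at hwf
        exact ⟨hL l' (List.mem_cons_of_mem _ hl') w hw hwf.2,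
          fixesAll_spec hT (pts := [l.1]) (by simp [fixesAll, hwf.1]) x (List.mem_singleton_self _)⟩
    have hst : Nat.card ↥(L ⊓ stabilizer (Equiv.Perm (Fin N)) x) = Nat.card (stabilizer L x) :=
      Nat.card_congr
        { toFun := fun s => ⟨⟨s.1, s.2.1⟩, s.2.2⟩
          invFun := fun s => ⟨s.1.1, s.1.2, s.2⟩
          left_inv := fun _ => rfl
          right_inv := fun _ => rfl }
    have hos : (orbit L x).ncard * Nat.card (stabilizer L x) = Nat.card L := by
      rw [← Nat.card_coe_set_eq, Nat.card_congr (orbitEquivQuotientStabilizer L x)]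
      exact (Subgroup.card_eq_card_quotient_mul_card_subgroup _).symm
    rw [List.prod_cons, mul_assoc, ← hos, ← hst]
    exact Nat.mul_le_mul horb hrest

/-- The chain of the whole group. -/
def fullChain : List Level := (0, [[0], [1], [2], [3]], cnv RankThreeMcL.Data.tree) :: cnvLv RankThreeMcL.Data.kChain

/-- Its orbit lengths. -/
def fullOrbs : List ℕ := 275 :: RankThreeMcL.Data.kOrbs

theorem fullChain_ok : (chainOK tblT 275 fullChain [] fullOrbs && Nat.beq fullOrbs.prod 898128000 &&
    lBeq (fullChain.map Prod.fst) basePts) = true := by decide +kernel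

/-- An element of the model is determined by the base. -/
theorem eq_one_of_fix {g : Equiv.Perm (Fin 275)} (hg : g ∈ mclS)
    (h : ∀ u : Fin 275, (u : ℕ) ∈ basePts → g u = u) : g = 1 := by
  have hc := fullChain_ok
  simp only [Bool.and_eq_true] at hc
  have hle := chain_spec_rest describes tblT_lt fullChain [] fullOrbs mclS hc.1.1
    fun l _ w _ _ => wperm_mem_mclS w
  rw [lBeq_eq hc.2, Nat.eq_of_beq_eq_true hc.1.2, natCard_mclS] at hle
  have h1 : Nat.card ↥(mclS ⊓ fixAll basePts) ≤ 1 :=
    Nat.le_of_mul_le_mul_left (hle.trans (mul_one _).symm.le) (by norm_num)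
  have := Finite.card_le_one_iff_subsingleton.1 h1
  exact congrArg Subtype.val
    (Subsingleton.elim (⟨g, hg, h⟩ : ↥(mclS ⊓ fixAll basePts)) ⟨1, one_mem _⟩)

theorem coe_prod_el (w : List ℕ) : (((w.map el).prod : mclS) : Equiv.Perm (Fin 275)) =
    wperm (fun i => ((el i : mclS) : Equiv.Perm (Fin 275))) w := by
  induction w with
  | nil => rfl
  | cons i w ih => rw [List.map_cons, List.prod_cons, Subgroup.coe_mul, ih]; rfl

/-- Words agreeing on the base are equal in the model. -/
theorem prod_el_eq {u v : List ℕ} (h : sameOn tabT basePts u v = true) :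
    (u.map el).prod = (v.map el).prod := by
  refine Subtype.ext ?_
  rw [coe_prod_el, coe_prod_el]
  have hu : wperm (fun i => ((el i : mclS) : Equiv.Perm (Fin 275))) u ∈ mclS :=
    wperm_mem fun i _ => (el i).2
  have hv : wperm (fun i => ((el i : mclS) : Equiv.Perm (Fin 275))) v ∈ mclS :=
    wperm_mem fun i _ => (el i).2
  refine (eq_of_inv_mul_eq_one (eq_one_of_fix (mul_mem (inv_mem hu) hv) fun x hx => ?_))
  rw [Equiv.Perm.mul_apply, ← sameOn_spec describes_el h x hx]
  exact Equiv.symm_apply_apply _ _

/-- Whether a letter conjugates given letters into the group they generate. -/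
noncomputable def normLetters (gens : List ℕ) (i : ℕ) : Bool :=
  gens.all fun h => (List.foldr (fun g acc => acc ++ acc.map (List.cons g)) [[]] gens).any fun v =>
    sameOn tabT basePts [i, h] (v ++ [i])

theorem mem_foldr_subs {gens v : List ℕ}
    (h : v ∈ List.foldr (fun g acc => acc ++ acc.map (List.cons g)) [[]] gens) : ∀ i ∈ v, i ∈ gens := by
  induction gens generalizing v with
  | nil => rw [List.mem_singleton.1 h]; intro i hi; exact hi
  | cons g gens ih =>
    rw [List.foldr_cons] at h
    rcases List.mem_append.1 h with h | h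
    · exact fun i hi => List.mem_cons_of_mem _ (ih h i hi)
    · obtain ⟨u, hu, rfl⟩ := List.mem_map.1 h
      intro i hi
      rcases List.mem_cons.1 hi with rfl | hi
      exacts [List.mem_cons_self .., List.mem_cons_of_mem _ (ih hu i hi)]

theorem mem_normalizer_of_letters {gens : List ℕ} {i : ℕ} (h : normLetters gens i = true) :
    el i ∈ Subgroup.normalizer (Subgroup.closure (el '' {j | j ∈ gens}) : Set mclS) := by
  simp only [normLetters, List.all_eq_true, List.any_eq_true] at h
  set E := Subgroup.closure (el '' {j | j ∈ gens})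
  set c := (MulAut.conj (el i)).toMonoidHom
  have hle : E.map c ≤ E := by
    rw [MonoidHom.map_closure, Subgroup.closure_le]
    rintro _ ⟨_, ⟨j, hj, rfl⟩, rfl⟩
    obtain ⟨v, hv, e⟩ := h j hj
    have e' := prod_el_eq e
    simp only [List.map_cons, List.map_nil, List.map_append, List.prod_cons, List.prod_nil,
      List.prod_append, mul_one] at e'
    show el i * el j * (el i)⁻¹ ∈ E
    rw [e', mul_inv_cancel_right]
    refine Subgroup.list_prod_mem _ fun x hx => ?_
    obtain ⟨k, hk, rfl⟩ := List.mem_map.1 hx
    exact Subgroup.subset_closure ⟨k, mem_foldr_subs hv k hk, rfl⟩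
  have heq : E.map c = E :=
    Subgroup.eq_of_le_of_card_ge hle (Subgroup.card_map_of_injective (MulAut.conj (el i)).injective).ge
  rw [Subgroup.mem_normalizer_iff]
  refine fun y => ⟨fun hy => hle ⟨y, hy, rfl⟩, fun hy => ?_⟩
  rw [← heq] at hy
  obtain ⟨y', hy', e⟩ := hy
  exact (MulAut.conj (el i)).injective e ▸ hy'

/-- The stated local subgroups hold the letters. -/
noncomputable def masksOk : Bool :=
  (List.range 34).all fun i =>
    (!(Nat.beq (Nat.land (maskOf' i) 1) 1) || sameOn tabT basePts [i, 0] [0, i]) &&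
    (!(Nat.beq (Nat.land (maskOf' i) 2) 2) || normLetters [4, 5, 6, 7] i) &&
    (!(Nat.beq (Nat.land (maskOf' i) 4) 4) || normLetters [8, 9, 10, 11] i) &&
    (!(Nat.beq (Nat.land (maskOf' i) 2) 2) || !(Nat.beq (Nat.land (maskOf' i) 4) 4) ||
      Nat.beq (Nat.land (maskOf' i) 1) 1 || Nat.beq i 1 || Nat.beq i 2)

theorem masks_ok : masksOk = true ∧ sameOn tabT basePts [1, 2] [] = true := by decide +kernel

theorem el_two : el 2 = (el 1)⁻¹ := by
  have h := prod_el_eq masks_ok.2
  simp only [List.map_cons, List.map_nil, List.prod_cons, List.prod_nil, mul_one] at h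
  exact eq_inv_of_mul_eq_one_right h

theorem mem_cent_of_mask {i : ℕ} (h : Nat.land (maskOf' i) 1 = 1) :
    el i ∈ Subgroup.centralizer ({t0} : Set mclS) := by
  by_cases hi : i < 34
  · have hm := masks_ok.1
    simp only [masksOk, List.all_eq_true, List.mem_range, Bool.and_eq_true] at hm
    have h1 := (hm i hi).1.1.1
    rw [h] at h1
    simp only [Nat.beq_refl, Bool.not_true, Bool.false_or] at h1
    have e := prod_el_eq h1
    simp only [List.map_cons, List.map_nil, List.prod_cons, List.prod_nil, mul_one] at e
    exact Subgroup.mem_centralizer_singleton_iff.2 e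
  · rw [maskOf', List.getD_eq_default _ _ (by rw [show Data.masks.length = 34 from rfl]; omega)] at h
    simp at h

theorem image_four (a b c d : ℕ) : el '' {j | j ∈ [a, b, c, d]} = {el a, el b, el c, el d} := by
  ext x
  simp only [Set.mem_image, Set.mem_ofPred_eq, List.mem_cons, List.not_mem_nil, or_false,
    Set.mem_insert_iff, Set.mem_singleton_iff]
  constructor
  · rintro ⟨j, rfl | rfl | rfl | rfl, rfl⟩ <;> simp
  · rintro (rfl | rfl | rfl | rfl)
    exacts [⟨a, by simp, rfl⟩, ⟨b, by simp, rfl⟩, ⟨c, by simp, rfl⟩, ⟨d, by simp, rfl⟩]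

theorem mem_norm1_of_mask {i : ℕ} (h : Nat.land (maskOf' i) 2 = 2) :
    el i ∈ Subgroup.normalizer (E1 : Set mclS) := by
  by_cases hi : i < 34
  · have hm := masks_ok.1
    simp only [masksOk, List.all_eq_true, List.mem_range, Bool.and_eq_true] at hm
    have h1 := (hm i hi).1.1.2
    rw [h] at h1
    simp only [Nat.beq_refl, Bool.not_true, Bool.false_or] at h1
    have e := mem_normalizer_of_letters h1
    rwa [image_four] at e
  · rw [maskOf', List.getD_eq_default _ _ (by rw [show Data.masks.length = 34 from rfl]; omega)] at h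
    simp at h

theorem mem_norm2_of_mask {i : ℕ} (h : Nat.land (maskOf' i) 4 = 4) :
    el i ∈ Subgroup.normalizer (E2 : Set mclS) := by
  by_cases hi : i < 34
  · have hm := masks_ok.1
    simp only [masksOk, List.all_eq_true, List.mem_range, Bool.and_eq_true] at hm
    have h1 := (hm i hi).1.2
    rw [h] at h1
    simp only [Nat.beq_refl, Bool.not_true, Bool.false_or] at h1
    have e := mem_normalizer_of_letters h1
    rwa [image_four] at e
  · rw [maskOf', List.getD_eq_default _ _ (by rw [show Data.masks.length = 34 from rfl]; omega)] at h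
    simp at h

theorem cases_of_both {i : ℕ} (h2 : Nat.land (maskOf' i) 2 = 2) (h4 : Nat.land (maskOf' i) 4 = 4) :
    Nat.land (maskOf' i) 1 = 1 ∨ i = 1 ∨ i = 2 := by
  by_cases hi : i < 34
  · have hm := masks_ok.1
    simp only [masksOk, List.all_eq_true, List.mem_range, Bool.and_eq_true] at hm
    have h1 := (hm i hi).2
    rw [h2, h4] at h1
    simp only [Nat.beq_refl, Bool.not_true, Bool.false_or, Bool.or_eq_true] at h1
    rcases h1 with (h1 | h1) | h1
    exacts [Or.inl (Nat.eq_of_beq_eq_true h1), Or.inr (Or.inl (Nat.eq_of_beq_eq_true h1)),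
      Or.inr (Or.inr (Nat.eq_of_beq_eq_true h1))]
  · rw [maskOf', List.getD_eq_default _ _ (by rw [show Data.masks.length = 34 from rfl]; omega)] at h2
    simp at h2

end CfsgLib.McLRecog.Completion
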