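import Cfsg.Agent.Lib.McLRecog.Amalgam
import Cfsg.Agent.Lib.McLRecog.Completion.Core
import Cfsg.Agent.Lib.McLRecog.Completion.Derive0
import Cfsg.Agent.Lib.McLRecog.Completion.Derive1
import Cfsg.Agent.Lib.McLRecog.Completion.Derive2
import Cfsg.Agent.Lib.McLRecog.Completion.Derive3
import Cfsg.Agent.Lib.McLRecog.Completion.Derive4
import Cfsg.Agent.Lib.McLRecog.Completion.Derive5
import Cfsg.Agent.Lib.McLRecog.Completion.Derive6
import Cfsg.Agent.Lib.McLRecog.Completion.Derive7

/-!
The McLaughlin group is the completion of the amalgam of an involution centraliser and the normalisers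
of two elementary groups of order sixteen.
-/

set_option autoImplicit false
set_option maxRecDepth 100000
set_option Elab.async false

namespace CfsgLib.McLRecog.Completion

open CfsgLib.RankThreeMcL CfsgLib.RankThreeRecog

universe u

/-- All derived equations. -/
def allEqns : List Eqn :=
  Data.eqns0 ++ Data.eqns1 ++ Data.eqns2 ++ Data.eqns3 ++ Data.eqns4 ++ Data.eqns5 ++ Data.eqns6 ++
    Data.eqns7

theorem allEqns_ok : (allEqns.all fun e => e.ok tabT basePts maskOf') = true := by
  simp only [allEqns, List.all_append, Data.eqns0_ok, Data.eqns1_ok, Data.eqns2_ok, Data.eqns3_ok,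
    Data.eqns4_ok, Data.eqns5_ok, Data.eqns6_ok, Data.eqns7_ok, Bool.and_self]

/-- An equation of the list, or a trivial one. -/
def eqnAt (k : ℕ) : Eqn := allEqns.getD k ⟨[], [], [], 0, [], 0, []⟩

/-- A word in the two generators of the centraliser. -/
noncomputable def inA (w : List ℕ) : Bool := w.all fun i => Nat.beq i 12 || Nat.beq i 14

/-- A word in the generators of the smaller subgroup. -/
noncomputable def inD (w : List ℕ) : Bool :=
  w.all fun i => Data.dLetters.any fun j => Nat.beq i j

/-- A word in letters of the centraliser. -/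
noncomputable def inC (w : List ℕ) : Bool := inGroup maskOf' 1 w

/-- The letters of the centraliser are words in its two generators. -/
noncomputable def cexpOk : Bool :=
  (List.range 34).all fun i => !(Nat.beq (Nat.land (maskOf' i) 1) 1) ||
    (inA (Data.cexp.getD i []) && localOk tabT basePts maskOf' 1 [i] (Data.cexp.getD i []))

/-- The action of a generator on the representatives. -/
noncomputable def mulOk (u : ℕ) (l : List (ℕ × List ℕ)) : Bool :=
  (List.range 210).all fun j =>
    Nat.blt (l.getD j (0, [])).1 210 && inD (l.getD j (0, [])).2 &&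
      localOk tabT basePts maskOf' 1 (u :: Data.cw.getD j [])
        (Data.cw.getD (l.getD j (0, [])).1 [] ++ (l.getD j (0, [])).2)

/-- The generators of the smaller subgroup move past the further generator. -/
noncomputable def dnOk : Bool :=
  lBeq (Data.dn.map Prod.fst) Data.dLetters &&
    Data.dn.all fun e => inC e.2 && localOk tabT basePts maskOf' 2 [e.1, 1] (1 :: e.2)

/-- The representative of an orbit. -/
def gamW (r : ℕ) : List ℕ := Data.gam.getD r []

/-- One propagation entry is justified. -/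
noncomputable def entryOk (r : ℕ) (known : ℕ) (e : ℕ × ℕ × ℕ × List ℕ × ℕ) : Bool :=
  bif Nat.beq e.2.1 0 then
    (let t := (Data.trans.getD r []).getD e.2.2.2.2 (0, 0, [], [], 0)
     Nat.blt t.2.1 6 && inC t.2.2.1 && inC t.2.2.2.1 &&
      lBeq (eqnAt t.2.2.2.2).lhs (gamW r ++ (Data.cw.getD e.1 [] ++ [1])) &&
      lBeq (eqnAt t.2.2.2.2).rhs (t.2.2.1 ++ (gamW t.2.1 ++ t.2.2.2.1)))
  else
    (let s := (Data.stab.getD r []).getD (Nat.sub e.2.1 1) ([], [], 0)
     Nat.testBit known e.2.2.1 && inC s.1 && inC s.2.1 && inD e.2.2.2.1 &&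
      lBeq (eqnAt s.2.2).lhs (gamW r ++ s.1) && lBeq (eqnAt s.2.2).rhs (s.2.1 ++ gamW r) &&
      localOk tabT basePts maskOf' 1 (s.1 ++ Data.cw.getD e.2.2.1 [])
        (Data.cw.getD e.1 [] ++ e.2.2.2.1))

/-- The entries are justified and reach every representative. -/
noncomputable def coverOk (r : ℕ) : List (ℕ × ℕ × ℕ × List ℕ × ℕ) → ℕ → Bool :=
  fun es => List.rec (fun known => (List.range 210).all fun j => Nat.testBit known j)
    (fun e _ ih known => entryOk r known e && ih (Nat.lor known (Nat.shiftLeft 1 e.1))) es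

/-- All checks on the orbits. -/
noncomputable def orbitsOk : Bool :=
  (List.range 6).all fun r => coverOk r (Data.cover.getD r []) 0 &&
    (Nat.beq r 0 || !(sameOn tabT basePts (gamW r ++ [0]) (0 :: gamW r)))

/-- The generators of the model as words. -/
noncomputable def tgenOk : Bool :=
  (List.range 4).all fun i => ((Data.tgen.getD i []).all fun j => Nat.blt j 34) &&
    allBelow' i
where
  allBelow' (i : ℕ) : Bool :=
    CfsgLib.SporRecognition.CosetCert.allBelow 9 275 fun u =>
      Nat.beq (tblT i u) (ev tabT (Data.tgen.getD i []) u)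

theorem small_ok : (cexpOk && mulOk 12 Data.mulA && mulOk 14 Data.mulB && dnOk &&
    lBeq (Data.cw.getD 0 []) [] && lBeq (gamW 0) [] && tgenOk &&
    Nat.beq (Nat.land (maskOf' 12) 1) 1 && Nat.beq (Nat.land (maskOf' 14) 1) 1) = true := by
  decide +kernel

theorem orbits_ok : orbitsOk = true := by decide +kernel

section

variable {G : Type u} [Group G] (L : LocalHoms t0 n E1 E2 G)

open scoped Classical in
/-- The image of a letter. -/
noncomputable def lamEl (i : ℕ) : G :=
  if h : el i ∈ Subgroup.centralizer ({t0} : Set mclS) then L.lamC ⟨el i, h⟩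
  else if h₁ : el i ∈ Subgroup.normalizer (E1 : Set mclS) then L.lam₁ ⟨el i, h₁⟩
  else 1

/-- A letter in the product of the group and the model. -/
noncomputable def pairEl (i : ℕ) : G × mclS := (lamEl L i, el i)

/-- The value of a word in the product. -/
noncomputable def V (w : List ℕ) : G × mclS := (w.map (pairEl L)).prod

theorem V_append (u v : List ℕ) : V L (u ++ v) = V L u * V L v := by
  rw [V, V, V, List.map_append, List.prod_append]

theorem V_cons (i : ℕ) (w : List ℕ) : V L (i :: w) = pairEl L i * V L w := by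
  rw [V, V, List.map_cons, List.prod_cons]

theorem V_single (i : ℕ) : V L [i] = pairEl L i := by simp [V]

theorem V_snd (w : List ℕ) : (V L w).2 = (w.map el).prod := by
  induction w with
  | nil => rfl
  | cons i w ih => rw [V_cons, List.map_cons, List.prod_cons, Prod.snd_mul, ih]; rfl

theorem lamEl_cent {i : ℕ} (h : Nat.land (maskOf' i) 1 = 1) :
    lamEl L i = L.lamC ⟨el i, mem_cent_of_mask h⟩ := by
  rw [lamEl, dif_pos (mem_cent_of_mask h)]

theorem lamEl_norm1 {i : ℕ} (h : Nat.land (maskOf' i) 2 = 2) :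
    lamEl L i = L.lam₁ ⟨el i, mem_norm1_of_mask h⟩ := by
  unfold lamEl
  split_ifs with hc h₁
  · exact (L.agree₁ _ _ _).symm
  · rfl
  · exact absurd (mem_norm1_of_mask h) h₁

theorem lamEl_norm2 {i : ℕ} (h : Nat.land (maskOf' i) 4 = 4) :
    lamEl L i = L.lam₂ ⟨el i, mem_norm2_of_mask h⟩ := by
  unfold lamEl
  split_ifs with hc h₁
  · exact (L.agree₂ _ _ _).symm
  · have hi : Nat.land (maskOf' i) 2 = 2 → i = 1 ∨ i = 2 := fun h2 => by
      rcases cases_of_both h2 h with e | e
      exacts [absurd (mem_cent_of_mask e) hc, e]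
    have key : i = 1 ∨ i = 2 := hi (mask2_of h h₁ hc)
    rcases key with rfl | rfl
    · exact L.agree_n h₁ _
    · have hn₁ : n ∈ Subgroup.normalizer (E1 : Set mclS) := by
        have := inv_mem h₁; rwa [el_two, inv_inv] at this
      have hn₂ : n ∈ Subgroup.normalizer (E2 : Set mclS) := by
        have := inv_mem (mem_norm2_of_mask h); rwa [el_two, inv_inv] at this
      have e₁ : (⟨el 2, h₁⟩ : Subgroup.normalizer (E1 : Set mclS)) = ⟨n, hn₁⟩⁻¹ := Subtype.ext el_two
      have e₂ : (⟨el 2, mem_norm2_of_mask h⟩ : Subgroup.normalizer (E2 : Set mclS)) = ⟨n, hn₂⟩⁻¹ :=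
        Subtype.ext el_two
      rw [e₁, e₂, map_inv, map_inv, L.agree_n hn₁ hn₂]
  · exact absurd (norm1_of h hc) h₁
where
  mask2_of {i : ℕ} (h : Nat.land (maskOf' i) 4 = 4) (_ : el i ∈ Subgroup.normalizer (E1 : Set mclS))
      (hc : el i ∉ Subgroup.centralizer ({t0} : Set mclS)) : Nat.land (maskOf' i) 2 = 2 := by
    rcases mask_four i h with e | e
    exacts [absurd (mem_cent_of_mask e) hc, e]
  norm1_of {i : ℕ} (h : Nat.land (maskOf' i) 4 = 4)
      (hc : el i ∉ Subgroup.centralizer ({t0} : Set mclS)) :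
      el i ∈ Subgroup.normalizer (E1 : Set mclS) := by
    rcases mask_four i h with e | e
    exacts [absurd (mem_cent_of_mask e) hc, mem_norm1_of_mask e]
  mask_four (i : ℕ) (h : Nat.land (maskOf' i) 4 = 4) :
      Nat.land (maskOf' i) 1 = 1 ∨ Nat.land (maskOf' i) 2 = 2 := by
    have hall : ∀ j < 34, Nat.land (maskOf' j) 4 = 4 →
        Nat.land (maskOf' j) 1 = 1 ∨ Nat.land (maskOf' j) 2 = 2 := by decide +kernel
    by_cases hi : i < 34
    · exact hall i hi h
    · rw [maskOf', List.getD_eq_default _ _ (by rw [show Data.masks.length = 34 from rfl]; omega)] at h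
      simp at h

theorem local_of_hom {g : ℕ} {H : Subgroup mclS} (f : H →* G)
    (hmem : ∀ i, Nat.land (maskOf' i) g = g → el i ∈ H)
    (hf : ∀ i (h : Nat.land (maskOf' i) g = g), lamEl L i = f ⟨el i, hmem i h⟩) {w : List ℕ}
    (hw : inGroup maskOf' g w = true) :
    ∃ h : (w.map el).prod ∈ H, (w.map (lamEl L)).prod = f ⟨_, h⟩ := by
  induction w with
  | nil => exact ⟨one_mem _, (map_one f).symm⟩
  | cons i w ih =>
    simp only [inGroup, List.all_cons, Bool.and_eq_true] at hw
    obtain ⟨h, e⟩ := ih hw.2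
    have hi : Nat.land (maskOf' i) g = g := Nat.eq_of_beq_eq_true hw.1
    refine ⟨by rw [List.map_cons, List.prod_cons]; exact mul_mem (hmem i hi) h, ?_⟩
    rw [List.map_cons, List.prod_cons, hf i hi, e, ← map_mul]
    exact congrArg f (Subtype.ext (by simp))

theorem localEq : LocalEq tabT basePts maskOf' (pairEl L) := by
  intro g u v h
  simp only [localOk, Bool.and_eq_true, Bool.or_eq_true] at h
  obtain ⟨⟨⟨hg, hu⟩, hv⟩, hs⟩ := h
  have hel := prod_el_eq hs
  have hsplit : ∀ w : List ℕ, (w.map (pairEl L)).prod = ((w.map (lamEl L)).prod, (w.map el).prod) := by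
    intro w
    induction w with
    | nil => rfl
    | cons i w ih => simp only [List.map_cons, List.prod_cons, ih]; rfl
  rw [hsplit, hsplit, hel]
  refine Prod.ext ?_ rfl
  show (u.map (lamEl L)).prod = (v.map (lamEl L)).prod
  rcases hg with (hg | hg) | hg <;> obtain rfl := Nat.eq_of_beq_eq_true hg
  · obtain ⟨a, ea⟩ := local_of_hom L L.lamC (fun i => mem_cent_of_mask) (fun i h => lamEl_cent L h) hu
    obtain ⟨b, eb⟩ := local_of_hom L L.lamC (fun i => mem_cent_of_mask) (fun i h => lamEl_cent L h) hv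
    rw [ea, eb]; exact congrArg L.lamC (Subtype.ext hel)
  · obtain ⟨a, ea⟩ := local_of_hom L L.lam₁ (fun i => mem_norm1_of_mask) (fun i h => lamEl_norm1 L h) hu
    obtain ⟨b, eb⟩ := local_of_hom L L.lam₁ (fun i => mem_norm1_of_mask) (fun i h => lamEl_norm1 L h) hv
    rw [ea, eb]; exact congrArg L.lam₁ (Subtype.ext hel)
  · obtain ⟨a, ea⟩ := local_of_hom L L.lam₂ (fun i => mem_norm2_of_mask) (fun i h => lamEl_norm2 L h) hu
    obtain ⟨b, eb⟩ := local_of_hom L L.lam₂ (fun i => mem_norm2_of_mask) (fun i h => lamEl_norm2 L h) hv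
    rw [ea, eb]; exact congrArg L.lam₂ (Subtype.ext hel)

theorem V_local {g : ℕ} {u v : List ℕ} (h : localOk tabT basePts maskOf' g u v = true) :
    V L u = V L v := localEq L g u v h

theorem V_eqnAt (k : ℕ) : V L (eqnAt k).lhs = V L (eqnAt k).rhs := by
  by_cases hk : k < allEqns.length
  · refine Eqn.spec (localEq L) ?_
    rw [eqnAt, List.getD_eq_getElem _ _ hk]
    exact List.all_eq_true.1 allEqns_ok _ (List.getElem_mem hk)
  · rw [eqnAt, List.getD_eq_default _ _ (not_lt.1 hk)]

/-- The two generators of the centraliser in the product. -/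
def genA : Set (G × mclS) := {pairEl L 12, pairEl L 14}

/-- The centraliser in the product. -/
noncomputable def KC : Subgroup (G × mclS) := Subgroup.closure (genA L)

theorem V_mem_of_inA {w : List ℕ} (h : inA w = true) : V L w ∈ KC L := by
  induction w with
  | nil => exact one_mem _
  | cons i w ih =>
    simp only [inA, List.all_cons, Bool.and_eq_true, Bool.or_eq_true] at h
    rw [V_cons]
    refine mul_mem (Subgroup.subset_closure ?_) (ih h.2)
    rcases h.1 with e | e <;> obtain rfl := Nat.eq_of_beq_eq_true e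
    exacts [Or.inl rfl, Or.inr rfl]

theorem pairEl_mem_KC {i : ℕ} (h : Nat.land (maskOf' i) 1 = 1) : pairEl L i ∈ KC L := by
  by_cases hi : i < 34
  · have hs := small_ok
    simp only [Bool.and_eq_true] at hs
    have hc := hs.1.1.1.1.1.1.1.1
    simp only [cexpOk, List.all_eq_true, List.mem_range, Bool.or_eq_true, Bool.and_eq_true] at hc
    rcases hc i hi with e | e
    · rw [h] at e; simp at e
    · rw [← V_single L i, V_local L e.2]
      exact V_mem_of_inA L e.1
  · rw [maskOf', List.getD_eq_default _ _ (by rw [show Data.masks.length = 34 from rfl]; omega)] at h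
    simp at h

theorem V_mem_of_inC {w : List ℕ} (h : inC w = true) : V L w ∈ KC L := by
  induction w with
  | nil => exact one_mem _
  | cons i w ih =>
    simp only [inC, inGroup, List.all_cons, Bool.and_eq_true] at h
    rw [V_cons]
    exact mul_mem (pairEl_mem_KC L (Nat.eq_of_beq_eq_true h.1)) (ih h.2)

/-- The generators of the smaller subgroup in the product. -/
def genD : Set (G × mclS) := pairEl L '' {i | i ∈ Data.dLetters}

theorem V_mem_of_inD {w : List ℕ} (h : inD w = true) : V L w ∈ Subgroup.closure (genD L) := by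
  induction w with
  | nil => exact one_mem _
  | cons i w ih =>
    simp only [inD, List.all_cons, Bool.and_eq_true, List.any_eq_true] at h
    obtain ⟨⟨j, hj, e⟩, h2⟩ := h
    rw [V_cons]
    exact mul_mem (Subgroup.subset_closure ⟨i, Nat.eq_of_beq_eq_true e ▸ hj, rfl⟩) (ih h2)

/-- The representatives of the orbits in the product. -/
noncomputable def gamV (r : ℕ) : G × mclS := V L (gamW r)

/-- The representatives of the cosets in the product. -/
noncomputable def cV (j : ℕ) : G × mclS := V L (Data.cw.getD j [])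

theorem dn_spec : ∀ d ∈ genD L, ∃ d' ∈ KC L, d * pairEl L 1 = pairEl L 1 * d' := by
  have hs := small_ok
  simp only [Bool.and_eq_true] at hs
  have hd := hs.1.1.1.1.1.2
  simp only [dnOk, Bool.and_eq_true, List.all_eq_true] at hd
  rintro _ ⟨i, hi, rfl⟩
  change i ∈ Data.dLetters at hi
  rw [← lBeq_eq hd.1] at hi
  obtain ⟨e, he, rfl⟩ := List.mem_map.1 hi
  obtain ⟨hc, hl⟩ := hd.2 e he
  refine ⟨V L e.2, V_mem_of_inC L hc, ?_⟩
  rw [← V_single L e.1, ← V_single L 1, ← V_append, ← V_append]
  exact V_local L hl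

theorem mul_spec : ∀ u ∈ genA L, ∀ j ∈ Set.Iio 210, ∃ j' ∈ Set.Iio 210,
    ∃ d ∈ Subgroup.closure (genD L), u * cV L j = cV L j' * d := by
  have hs := small_ok
  simp only [Bool.and_eq_true] at hs
  have key : ∀ (i : ℕ) (l : List (ℕ × List ℕ)), mulOk i l = true → ∀ j ∈ Set.Iio 210,
      ∃ j' ∈ Set.Iio 210, ∃ d ∈ Subgroup.closure (genD L), pairEl L i * cV L j = cV L j' * d := by
    intro i l hl j hj
    simp only [mulOk, List.all_eq_true, List.mem_range, Bool.and_eq_true, Nat.blt_eq] at hl
    obtain ⟨⟨h1, h2⟩, h3⟩ := hl j hj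
    refine ⟨_, h1, _, V_mem_of_inD L h2, ?_⟩
    rw [cV, cV, ← V_cons, ← V_append]
    exact V_local L h3
  rintro u (rfl | rfl)
  exacts [key 12 _ hs.1.1.1.1.1.1.1.2, key 14 _ hs.1.1.1.1.1.1.2]

theorem cover_spec (r : ℕ) : ∀ (es : List (ℕ × ℕ × ℕ × List ℕ × ℕ)) (known : ℕ),
    coverOk r es known = true →
    (∀ j, Nat.testBit known j = true →
      gamV L r * cV L j * pairEl L 1 ∈ cosetUnion (KC L) (Set.Iio 6) (gamV L)) →
    ∀ j ∈ Set.Iio 210, gamV L r * cV L j * pairEl L 1 ∈ cosetUnion (KC L) (Set.Iio 6) (gamV L)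
  | [], known, h, hk, j, hj => by
    change ((List.range 210).all fun j => Nat.testBit known j) = true at h
    exact hk j (List.all_eq_true.1 h j (List.mem_range.2 hj))
  | e :: es, known, h, hk, j, hj => by
    change (entryOk r known e && coverOk r es (Nat.lor known (Nat.shiftLeft 1 e.1))) = true at h
    rw [Bool.and_eq_true] at h
    refine cover_spec r es _ h.2 (fun i hi => ?_) j hj
    change Nat.testBit (known ||| 1 <<< e.1) i = true at hi
    rw [Nat.testBit_or, Nat.one_shiftLeft, Nat.testBit_two_pow, Bool.or_eq_true, decide_eq_true_eq] at hi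
    rcases hi with hi | rfl
    · exact hk i hi
    have he := h.1
    unfold entryOk at he
    rcases hb : Nat.beq e.2.1 0 with _ | _ <;> rw [hb] at he <;>
      simp only [cond_false, cond_true, Bool.and_eq_true] at he
    · obtain ⟨⟨⟨⟨⟨⟨ht, hs1⟩, hs2⟩, hd⟩, hl⟩, hr⟩, hloc⟩ := he
      refine mem_cover (e := V L ((Data.stab.getD r []).getD (Nat.sub e.2.1 1) ([], [], 0)).1)
        (dn_spec L) (V_mem_of_inC L hs2) ?_ (V_mem_of_inD L hd) ?_ (hk _ ht)
      · rw [gamV, ← V_append, ← V_append, ← lBeq_eq hl, ← lBeq_eq hr]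
        exact V_eqnAt L _
      · rw [cV, cV, ← V_append, ← V_append]
        exact V_local L hloc
    · obtain ⟨⟨⟨⟨hs, hx⟩, hy⟩, hl⟩, hr⟩ := he
      refine ⟨_, Nat.blt_eq.mp hs, _, V_mem_of_inC L hx, _, V_mem_of_inC L hy, ?_⟩
      rw [gamV, gamV, cV, mul_assoc, ← V_single L 1, ← V_append, ← V_append, ← lBeq_eq hl,
        V_eqnAt, lBeq_eq hr, V_append, V_append, mul_assoc]

theorem orbit_zero : gamV L 0 = 1 ∧ cV L 0 = 1 := by
  have hs := small_ok
  simp only [Bool.and_eq_true] at hs
  rw [gamV, cV, lBeq_eq hs.1.1.1.2, lBeq_eq hs.1.1.1.1.2]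
  exact ⟨rfl, rfl⟩

theorem mem_cosetUnion [Finite G] {g : G × mclS}
    (hg : g ∈ Subgroup.closure (genA L ∪ {pairEl L 1})) :
    g ∈ cosetUnion (KC L) (Set.Iio 6) (gamV L) := by
  refine closure_subset_cosetUnion (J := Set.Iio 210) rfl (by norm_num) (orbit_zero L).2 (mul_spec L)
    (dn_spec L) (fun r hr => ?_) (by norm_num) (orbit_zero L).1 hg
  have h := orbits_ok
  simp only [orbitsOk, List.all_eq_true, List.mem_range, Bool.and_eq_true] at h
  exact cover_spec L r _ 0 (h r hr).1 fun j hj => absurd hj (by simp)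

theorem cent_of_mem_KC {x : G × mclS} (hx : x ∈ KC L) :
    ∃ h : x.2 ∈ Subgroup.centralizer ({t0} : Set mclS), x.1 = L.lamC ⟨x.2, h⟩ := by
  induction hx using Subgroup.closure_induction with
  | mem x hx =>
    have hs := small_ok
    simp only [Bool.and_eq_true] at hs
    rcases hx with rfl | rfl
    · exact ⟨_, lamEl_cent L (Nat.eq_of_beq_eq_true hs.1.2)⟩
    · exact ⟨_, lamEl_cent L (Nat.eq_of_beq_eq_true hs.2)⟩
  | one => exact ⟨one_mem _, (map_one L.lamC).symm⟩
  | mul x y _ _ hx hy =>
    obtain ⟨hx, ex⟩ := hx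
    obtain ⟨hy, ey⟩ := hy
    exact ⟨mul_mem hx hy, by rw [Prod.fst_mul, ex, ey, ← map_mul]; rfl⟩
  | inv x _ hx =>
    obtain ⟨hx, ex⟩ := hx
    exact ⟨inv_mem hx, by rw [Prod.fst_inv, ex, ← map_inv]; rfl⟩

theorem eq_orbit_zero {r : ℕ} (hr : r < 6)
    (h : (gamV L r).2 ∈ Subgroup.centralizer ({t0} : Set mclS)) : r = 0 := by
  have ho := orbits_ok
  simp only [orbitsOk, List.all_eq_true, List.mem_range, Bool.and_eq_true, Bool.or_eq_true] at ho
  rcases (ho r hr).2 with e | e
  · exact Nat.eq_of_beq_eq_true e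
  · exfalso
    rw [Bool.not_eq_true'] at e
    have h' := congrArg (fun m : mclS => (m : Equiv.Perm (Fin 275)))
      (Subgroup.mem_centralizer_singleton_iff.1 h)
    rw [gamV, V_snd] at h'
    have e1 : ((gamW r ++ [0]).map el).prod = ((gamW r).map el).prod * t0 := by simp [t0]
    have e2 : ((0 :: gamW r).map el).prod = t0 * ((gamW r).map el).prod := by simp [t0]
    simp only [← e1, ← e2] at h'
    rw [coe_prod_el, coe_prod_el] at h'
    refine Bool.noConfusion (e.symm.trans (List.all_eq_true.2 fun p hp => ?_) : false = true)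
    have hp' : p < 275 := by
      simp only [basePts, List.mem_cons, List.not_mem_nil, or_false] at hp
      omega
    have a := ev_eq describes_el (gamW r ++ [0]) ⟨p, hp'⟩
    have b := ev_eq describes_el (0 :: gamW r) ⟨p, hp'⟩
    rw [h'] at a
    change Nat.beq _ _ = true
    rw [← a, ← b]
    exact Nat.beq_refl _

end

theorem model_gen : ∀ x : mclS, ∀ (S : Submonoid mclS),
    (∀ i, el i ∈ S) → x ∈ S := by
  intro x S hS
  let S' : Subgroup mclS := Subgroup.closure (Set.range el)
  have hle : S'.toSubmonoid ≤ S := by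
    rw [Subgroup.closure_toSubmonoid_of_finite, Submonoid.closure_le]
    rintro _ ⟨i, rfl⟩
    exact hS i
  refine hle ?_
  set L' := S'.map mclS.subtype
  have hgen : ∀ i, gperm i ∈ L' := by
    intro i
    induction i using Nat.strong_induction_on with
    | _ i ih =>
      by_cases hi : i < 4
      · have hs := small_ok
        simp only [Bool.and_eq_true] at hs
        have ht := hs.1.1.2
        simp only [tgenOk, tgenOk.allBelow', List.all_eq_true, List.mem_range, Bool.and_eq_true] at ht
        refine ⟨((Data.tgen.getD i []).map el).prod, Subgroup.list_prod_mem _ fun y hy => ?_,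
          Equiv.ext fun u => Fin.ext ?_⟩
        · obtain ⟨k, -, rfl⟩ := List.mem_map.1 hy
          exact Subgroup.subset_closure ⟨k, rfl⟩
        · rw [Subgroup.coe_subtype, coe_prod_el, ev_eq describes_el, describes i u]
          exact (Nat.eq_of_beq_eq_true
            (CfsgLib.SporRecognition.CosetCert.allBelow_spec (ht i hi).2 u u.2)).symm
      by_cases hi' : i < 210
      · have h := defsTbl_ok
        simp only [defsTblOk, List.all_eq_true, List.mem_range, Bool.and_eq_true, Nat.blt_eq] at h
        obtain ⟨⟨-, hw⟩, he⟩ := h.2 (i - 4) (by omega)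
        rw [show i - 4 + 4 = i by omega] at hw he
        have e : gperm i = wperm gperm (RankThreeMcL.Data.defs.getD (i - 4) (0, [])).2 :=
          Equiv.ext fun u => Fin.ext (by
            rw [ev_eq describes, describes]
            exact Nat.eq_of_beq_eq_true
              (CfsgLib.SporRecognition.CosetCert.allBelow_spec he u u.2))
        rw [e]
        exact wperm_mem fun j hj => ih j (hw j hj)
      · have e : gperm i = 1 := Equiv.ext fun u => Fin.ext (by
          rw [describes i u, tblT, show Nat.blt i 210 = false from by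
            rcases hb : Nat.blt i 210 with _ | _
            · rfl
            · exact absurd (Nat.blt_eq.mp hb) hi']
          rfl)
        rw [e]
        exact one_mem _
  have hc := fullChain_ok
  simp only [Bool.and_eq_true] at hc
  have hcard := chain_spec describes tblT_lt fullChain [] fullOrbs L' hc.1.1
    fun l _ w _ _ => wperm_mem fun i _ => hgen i
  rw [Nat.eq_of_beq_eq_true hc.1.2, ← natCard_mclS] at hcard
  have hL : L' = mclS := Subgroup.eq_of_le_of_card_ge
    (by rintro _ ⟨y, -, rfl⟩; exact y.2) hcard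
  obtain ⟨y, hy, e⟩ : (x : Equiv.Perm (Fin 275)) ∈ L' := by rw [hL]; exact x.2
  rwa [← Subtype.ext e]

/-- The model is the completion of the amalgam. -/
theorem completes : Completes.{u} t0 n E1 E2 := by
  intro G _ _ L
  classical
  let H : Subgroup (G × mclS) := Subgroup.closure (genA L ∪ {pairEl L 1})
  let π : H →* mclS := (MonoidHom.snd G mclS).comp H.subtype
  have hKC : KC L ≤ H := Subgroup.closure_mono Set.subset_union_left
  have hinj : Function.Injective π := by
    rw [← MonoidHom.ker_eq_bot_iff, eq_bot_iff]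
    rintro ⟨g, hg⟩ hk
    obtain ⟨r, hr, x, hx, y, hy, rfl⟩ := mem_cosetUnion L hg
    have hk' : (x * gamV L r * y).2 = 1 := hk
    have hmem : (gamV L r).2 ∈ Subgroup.centralizer ({t0} : Set mclS) := by
      rw [show (gamV L r).2 = x.2⁻¹ * y.2⁻¹ by
        rw [Prod.snd_mul, Prod.snd_mul, mul_eq_one_iff_eq_inv] at hk'
        rw [← hk', inv_mul_cancel_left]]
      exact mul_mem (inv_mem (cent_of_mem_KC L hx).1) (inv_mem (cent_of_mem_KC L hy).1)
    obtain rfl := eq_orbit_zero L hr hmem
    obtain ⟨hc, e⟩ := cent_of_mem_KC L (x := x * gamV L 0 * y)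
      (by rw [(orbit_zero L).1, mul_one]; exact mul_mem hx hy)
    refine Subgroup.mem_bot.2 (Subtype.ext (Prod.ext ?_ hk'))
    show (x * gamV L 0 * y).1 = 1
    rw [e, show (⟨_, hc⟩ : Subgroup.centralizer ({t0} : Set mclS)) = 1 from Subtype.ext hk', map_one]
  have hsurj : Function.Surjective π := fun m => by
    refine (model_gen m π.range.toSubmonoid fun i => ?_ : m ∈ π.range)
    have h1 : pairEl L 1 ∈ H := Subgroup.subset_closure (Or.inr rfl)
    rcases hm : Nat.beq (Nat.land (maskOf' i) 1) 1 with _ | _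
    · have hcases : ∀ j < 34, Nat.beq (Nat.land (maskOf' j) 1) 1 = false → j = 1 ∨ j = 2 := by
        decide +kernel
      by_cases hi : i < 34
      · rcases hcases i hi hm with rfl | rfl
        · exact ⟨⟨_, h1⟩, rfl⟩
        · exact ⟨(⟨_, h1⟩ : H)⁻¹, by rw [map_inv, el_two]; rfl⟩
      · have : el i = 1 := Subtype.ext (by
          show wperm gperm (word i) = 1
          rw [word_of_ge (not_lt.1 hi)]; rfl)
        rw [this]
        exact one_mem π.range
    · exact ⟨⟨_, hKC (pairEl_mem_KC L (Nat.eq_of_beq_eq_true hm))⟩, rfl⟩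
  let e := MulEquiv.ofBijective π ⟨hinj, hsurj⟩
  refine ⟨((MonoidHom.fst G mclS).comp H.subtype).comp e.symm.toMonoidHom, fun x hc => ?_⟩
  obtain ⟨r, hr, a, ha, b, hb, hg⟩ := mem_cosetUnion L (e.symm x).2
  have hx : (e.symm x : G × mclS).2 = x := e.apply_symm_apply x
  have hmem : (gamV L r).2 ∈ Subgroup.centralizer ({t0} : Set mclS) := by
    rw [show (gamV L r).2 = a.2⁻¹ * x * b.2⁻¹ by
      rw [← hx, hg, Prod.snd_mul, Prod.snd_mul]; group]
    exact mul_mem (mul_mem (inv_mem (cent_of_mem_KC L ha).1) hc) (inv_mem (cent_of_mem_KC L hb).1)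
  obtain rfl := eq_orbit_zero L hr hmem
  obtain ⟨h, e'⟩ := cent_of_mem_KC L (x := (e.symm x : G × mclS))
    (by rw [hg, (orbit_zero L).1, mul_one]; exact mul_mem ha hb)
  show (e.symm x : G × mclS).1 = L.lamC ⟨x, hc⟩
  rw [e']
  exact congrArg L.lamC (Subtype.ext hx)

end CfsgLib.McLRecog.Completion
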